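import Groth.Agent.S12242
import Groth.Agent.S12243

/-!
# Standard shrinking of complete dévissages

Localizing all the rings of a complete dévissage at compatible elements gives a complete dévissage.
-/

set_option autoImplicit false
universe u
open FlatMor

namespace Groth.Agent.CDShrink

open _root_.TensorProduct
open S12243 (cI cI_eq cI_lt cI_step phi phi_succ castA castB coker_baseChange bijective_baseChange_fibre)

section LocDim

open S12242 (mem_support_fiberMod fibSupp suppHomeo localDim_supp localDim_open)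

variable {R R' S S' : Type u} [CommRing R] [CommRing R'] [CommRing S] [CommRing S']
  [Algebra R R'] [Algebra R S] [Algebra R' S'] [Algebra R S'] [Algebra S S']
  [IsScalarTower R R' S'] [IsScalarTower R S S']
  {N N' : Type u} [AddCommGroup N] [Module S N] [Module R N] [IsScalarTower R S N] [Module.Finite S N]
  [AddCommGroup N'] [Module S' N'] [Module S N'] [IsScalarTower S S' N'] [Module R' N'] [IsScalarTower R' S' N']
  (p : Ideal R) [p.IsPrime] (p' : Ideal R') [p'.IsPrime]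

/-- Shrinking does not change the local dimension of the fibre support. -/
theorem locDim_shrink (a : S) [IsLocalization.Away a S'] (f : N →ₗ[S] N') (hf : IsBaseChange S' f)
    (hover : ∀ P : PrimeSpectrum R', P.asIdeal = p' ↔ P.asIdeal.comap (algebraMap R R') = p)
    (q : Ideal S) [q.IsPrime] [q.LiesOver p] (q' : Ideal S') [q'.IsPrime] [q'.LiesOver p']
    (hq : q'.comap (algebraMap S S') = q) (n : ℕ)
    (h1 : ∃ (ξ : PrimeSpectrum (p.Fiber S)) (hξ : ξ ∈ Module.support (p.Fiber S) (FlatCA.fiberMod p S N)),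
      ξ.asIdeal = FlatCA.fiberIdeal p q ∧
      FlatMor.localDim (Module.support (p.Fiber S) (FlatCA.fiberMod p S N)) ⟨ξ, hξ⟩ = n) :
    ∃ (ξ : PrimeSpectrum (p'.Fiber S')) (hξ : ξ ∈ Module.support (p'.Fiber S') (FlatCA.fiberMod p' S' N')),
      ξ.asIdeal = FlatCA.fiberIdeal p' q' ∧
      FlatMor.localDim (Module.support (p'.Fiber S') (FlatCA.fiberMod p' S' N')) ⟨ξ, hξ⟩ = n := by
  haveI : Module.Finite S' N' := Module.Finite.equiv hf.equiv
  let j := PrimeSpectrum.comap (algebraMap S S')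
  have hj : Topology.IsOpenEmbedding j := PrimeSpectrum.localization_away_isOpenEmbedding S' a
  have hmem : ∀ Q, Q ∈ fibSupp p' S' N' ↔ j Q ∈ fibSupp p S N := by
    intro Q
    have h2 : Q ∈ Module.support S' N' ↔ j Q ∈ Module.support S N := by
      rw [S12231.support_baseChange hf, Module.support_eq_zeroLocus (M := N)]
      exact Ideal.map_le_iff_le_comap
    refine and_congr ?_ h2
    rw [PrimeSpectrum.ext_iff, PrimeSpectrum.ext_iff]
    refine (hover (PrimeSpectrum.comap (algebraMap R' S') Q)).trans ?_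
    show ((Q.asIdeal.comap (algebraMap R' S')).comap (algebraMap R R') = p) ↔ ((Q.asIdeal.comap (algebraMap S S')).comap (algebraMap R S) = p)
    rw [Ideal.comap_comap, Ideal.comap_comap, ← IsScalarTower.algebraMap_eq, ← IsScalarTower.algebraMap_eq]
  let U : Set (fibSupp p S N) := Subtype.val ⁻¹' (Set.range j)
  have hU : IsOpen U := hj.isOpen_range.preimage continuous_subtype_val
  let e₀ : fibSupp p' S' N' → U := fun Q => ⟨⟨j Q.1, (hmem _).mp Q.2⟩, Q.1, rfl⟩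
  have he₀ : Topology.IsEmbedding e₀ := by
    refine Topology.IsEmbedding.of_comp (Continuous.subtype_mk (Continuous.subtype_mk (hj.continuous.comp continuous_subtype_val) _) _)
      (continuous_subtype_val.comp continuous_subtype_val) ?_
    exact hj.isEmbedding.comp Topology.IsEmbedding.subtypeVal
  have he₀s : Function.Surjective e₀ := by
    rintro ⟨⟨Q, hQ⟩, hQr⟩
    obtain ⟨P, hPQ⟩ := id hQr
    change j P = Q at hPQ
    subst hPQ
    exact ⟨⟨P, (hmem _).mpr hQ⟩, rfl⟩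
  let e : fibSupp p' S' N' ≃ₜ U := he₀.toHomeomorphOfSurjective he₀s
  obtain ⟨ξ, hξ, hξq, hloc⟩ := h1
  have hξpt : (suppHomeo p ⟨ξ, hξ⟩).1.asIdeal = q := by
    show ξ.asIdeal.comap _ = q
    rw [hξq]
    exact FlatMisc.Fiber.comap_fiberIdeal p q
  let P : PrimeSpectrum S' := ⟨q', inferInstance⟩
  have hjP : j P = (suppHomeo p ⟨ξ, hξ⟩).1 := PrimeSpectrum.ext (hq.trans hξpt.symm)
  have hP : P ∈ fibSupp p' S' N' := (hmem P).mpr (hjP ▸ (suppHomeo p ⟨ξ, hξ⟩).2)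
  have heP : (e ⟨P, hP⟩).1 = suppHomeo p ⟨ξ, hξ⟩ := Subtype.ext hjP
  rw [localDim_supp] at hloc
  let x := (suppHomeo (N := N') p').symm ⟨P, hP⟩
  refine ⟨x.1, x.2, ?_, ?_⟩
  · have hx : (suppHomeo (N := N') p' x).1.asIdeal = q' := by
      simp only [x, Homeomorph.apply_symm_apply]
      rfl
    haveI := RGFlat.fiberIdeal_isPrime p' q'
    refine congrArg PrimeSpectrum.asIdeal (?_ : x.1 = ⟨FlatCA.fiberIdeal p' q', inferInstance⟩)
    apply (PrimeSpectrum.preimageHomeomorphFiber R' S' ⟨p', inferInstance⟩).symm.injective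
    refine Subtype.ext (PrimeSpectrum.ext ?_)
    exact hx.trans (FlatMisc.Fiber.comap_fiberIdeal p' q').symm
  · rw [localDim_supp, show suppHomeo p' x = ⟨P, hP⟩ from Homeomorph.apply_symm_apply _ _]
    have h1 := FlatMisc.FibreDimScheme.localDim_homeo e ⟨P, hP⟩
    have h2 := FlatMisc.FibreDimScheme.localDim_homeo e.symm (e ⟨P, hP⟩)
    rw [Homeomorph.symm_apply_apply] at h2
    rw [le_antisymm h2 h1, localDim_open hU, heP]
    exact hloc


end LocDim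

section Gen

theorem disjoint_powers {A : Type u} [CommRing A] {P : Ideal A} [hP : P.IsPrime] {a : A} (h : a ∉ P) :
    Disjoint (Submonoid.powers a : Set A) P :=
  Set.disjoint_left.mpr fun x ⟨k, hk⟩ hx =>
    h (hP.mem_of_pow_mem k (show a ^ k ∈ P by rw [show a ^ k = x from hk]; exact hx))

theorem prime_map {A A' : Type u} [CommRing A] [CommRing A'] [Algebra A A'] (a : A) [IsLocalization.Away a A']
    {P : Ideal A} [P.IsPrime] (h : a ∉ P) : (P.map (algebraMap A A')).IsPrime :=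
  IsLocalization.isPrime_of_isPrime_disjoint (Submonoid.powers a) A' P ‹_› (disjoint_powers h)

theorem comap_map {A A' : Type u} [CommRing A] [CommRing A'] [Algebra A A'] (a : A) [IsLocalization.Away a A']
    {P : Ideal A} [P.IsPrime] (h : a ∉ P) : (P.map (algebraMap A A')).comap (algebraMap A A') = P :=
  IsLocalization.under_map_of_isPrime_disjoint (Submonoid.powers a) A' ‹_› (disjoint_powers h)

theorem comap_eq_map {S S' C C' : Type u} [CommRing S] [CommRing S'] [CommRing C] [CommRing C'] [Algebra S S']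
    [Algebra S C] [Algebra C C'] [Algebra S' C'] [Algebra S C'] [IsScalarTower S C C'] [IsScalarTower S S' C']
    (a : S) [IsLocalization.Away a S'] (P : Ideal C') (Q : Ideal S)
    (h : (P.comap (algebraMap C C')).comap (algebraMap S C) = Q) :
    P.comap (algebraMap S' C') = Q.map (algebraMap S S') := by
  rw [← IsLocalization.map_under (Submonoid.powers a) S' (P.comap (algebraMap S' C'))]
  refine congrArg (Ideal.map (algebraMap S S')) ?_
  show (P.comap (algebraMap S' C')).comap (algebraMap S S') = Q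
  rw [← h, Ideal.comap_comap, Ideal.comap_comap, ← IsScalarTower.algebraMap_eq, ← IsScalarTower.algebraMap_eq]

theorem pushout_away {B B' A A' : Type u} [CommRing B] [CommRing B'] [CommRing A] [CommRing A']
    [Algebra B B'] [Algebra B A] [Algebra B' A'] [Algebra B A'] [Algebra A A']
    [IsScalarTower B B' A'] [IsScalarTower B A A'] (b : B) [IsLocalization.Away b B'] (a : A)
    (hab : algebraMap B A b = a) [IsLocalization.Away a A'] : Algebra.IsPushout B B' A A' := by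
  subst hab
  haveI : IsLocalization (Algebra.algebraMapSubmonoid A (Submonoid.powers b)) A' := by
    rw [Algebra.algebraMapSubmonoid_powers]
    infer_instance
  exact Algebra.IsPushout.symm (Algebra.isPushout_of_isLocalization (Submonoid.powers b) B' A A')

theorem surjective_pushout {B B' A A' : Type u} [CommRing B] [CommRing B'] [CommRing A] [CommRing A']
    [Algebra B B'] [Algebra B A] [Algebra B' A'] [Algebra B A'] [Algebra A A']
    [IsScalarTower B B' A'] [IsScalarTower B A A'] [Algebra.IsPushout B B' A A']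
    (h : Function.Surjective (algebraMap B A)) : Function.Surjective (algebraMap B' A') := by
  intro y
  obtain ⟨z, rfl⟩ := (Algebra.IsPushout.equiv B B' A A').surjective y
  induction z using TensorProduct.induction_on with
  | zero => exact ⟨0, by rw [map_zero, map_zero]⟩
  | tmul s a =>
    obtain ⟨b, rfl⟩ := h a
    refine ⟨s * algebraMap B B' b, ?_⟩
    rw [Algebra.IsPushout.equiv_tmul, map_mul, ← IsScalarTower.algebraMap_apply, ← IsScalarTower.algebraMap_apply]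
  | add x y hx hy =>
    obtain ⟨u, hu⟩ := hx
    obtain ⟨v, hv⟩ := hy
    exact ⟨u + v, by rw [map_add, map_add, hu, hv]⟩

theorem exists_mem_dvd {B A : Type u} [CommRing B] [CommRing A] [Algebra B A] [Module.Finite B A]
    (y : Ideal B) [y.IsPrime] (z : Ideal A) [z.IsPrime]
    (huniq : ∀ (Q : Ideal A) [Q.IsPrime], Q.LiesOver y → Q = z) (v : A) (hv : v ∉ z) :
    ∃ b : B, b ∉ y ∧ v ∣ algebraMap B A b := by
  haveI : Algebra.IsIntegral B A := Algebra.IsIntegral.of_finite B A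
  by_contra hne
  push_neg at hne
  obtain ⟨Q, hQ, hQp, hQy⟩ := Ideal.exists_ideal_over_prime_of_isIntegral y (Ideal.span {v}) (fun b hb => by
    by_contra hby
    exact hne b hby (Ideal.mem_span_singleton.mp hb))
  haveI := hQp
  exact hv (huniq Q ⟨hQy.symm⟩ ▸ hQ (Ideal.mem_span_singleton_self v))

/-- The canonical algebra structure. -/
noncomputable abbrev canAlg {A : Type u} [CommRing A] (a : A) : Algebra A (Localization.Away a) := inferInstance

/-- The canonical module structure. -/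
noncomputable abbrev canMod {A M : Type u} [CommRing A] [AddCommGroup M] [Module A M] (T : Submonoid A) :
    Module A (LocalizedModule T M) := inferInstance

end Gen

section Cast

variable {R : Type u} [CommRing R] {S N : Type u} [CommRing S] [Algebra R S] [AddCommGroup N] [Module S N]
  {p : Ideal R} [p.IsPrime] (D : FlatCA.CompleteDevissage R S N p) (bb : ∀ i, D.B i)

/-- The elements of the rings carrying the modules. -/
abbrev aa (i : ℕ) : D.A i := algebraMap (D.B i) (D.A i) (bb i)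

/-- The shrunken rings. -/
abbrev AA (i : ℕ) : Type u := Localization.Away (aa D bb (cI D i))

/-- The shrunken smooth algebras. -/
abbrev BB (i : ℕ) : Type u := Localization.Away (bb (cI D i))

/-- The shrunken modules. -/
abbrev MM (i : ℕ) : Type u := LocalizedModule (Submonoid.powers (aa D bb (cI D i))) (D.M (cI D i))

theorem square_A {i j : ℕ} (h : j = i) (x : D.B i) :
    algebraMap (D.B j) (D.A j) (castB D h x) = castA D h (algebraMap (D.B i) (D.A i) x) := by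
  subst h
  rfl

theorem square_A' {i a b : ℕ} (ha : a = i) (hb : b = i + 1) (hh) (x : D.B i) :
    phi D a b hh (castB D ha x) = castA D hb (algebraMap (D.B i) (D.A (i + 1)) x) := by
  subst ha hb
  rw [phi_succ]
  rfl

theorem castA_zero (x : D.A 0) (h : 0 = 0) : castA D h x = x := rfl

theorem phi_same (a : ℕ) (h) : phi D a a h = IsScalarTower.toAlgHom R (D.B a) (D.A a) :=
  dif_neg (by omega)

theorem phi_bb (hcompat : ∀ i, i + 1 < D.n → algebraMap (D.B i) (D.A (i + 1)) (bb i) = aa D bb (i + 1))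
    (a b : ℕ) (hb : b < D.n) (h : b = a + 1 ∨ b = a) : phi D a b h (bb a) = aa D bb b := by
  rcases id h with rfl | rfl
  · rw [phi_succ]; exact hcompat a hb
  · rw [phi_same]; rfl

theorem locA {i j : ℕ} (h : j = i) (inst : Algebra (D.A i) (Localization.Away (aa D bb j)))
    (ha : ∀ x, (letI := inst; algebraMap (D.A i) (Localization.Away (aa D bb j)) x) =
      algebraMap (D.A j) _ (castA D h x)) :
    (letI := inst; IsScalarTower R (D.A i) (Localization.Away (aa D bb j))) ∧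
      (letI := inst; IsLocalization.Away (aa D bb i) (Localization.Away (aa D bb j))) := by
  subst h
  obtain rfl : inst = canAlg (aa D bb j) := Algebra.algebra_ext _ _ ha
  exact ⟨inferInstance, inferInstance⟩

theorem locB {i j : ℕ} (h : j = i) (inst : Algebra (D.B i) (Localization.Away (bb j)))
    (ha : ∀ x, (letI := inst; algebraMap (D.B i) (Localization.Away (bb j)) x) =
      algebraMap (D.B j) _ (castB D h x)) :
    (letI := inst; IsScalarTower R (D.B i) (Localization.Away (bb j))) ∧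
      (letI := inst; IsLocalization.Away (bb i) (Localization.Away (bb j))) := by
  subst h
  obtain rfl : inst = canAlg (bb j) := Algebra.algebra_ext _ _ ha
  exact ⟨inferInstance, inferInstance⟩

/-- The localization maps. -/
noncomputable def gMap {i j : ℕ} (h : j = i) : D.M i →+ LocalizedModule (Submonoid.powers (aa D bb j)) (D.M j) :=
  h ▸ (LocalizedModule.mkLinearMap (Submonoid.powers (aa D bb i)) (D.M i)).toAddMonoidHom

theorem gMap_rfl (i : ℕ) (h : i = i) (x : D.M i) :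
    gMap D bb h x = LocalizedModule.mkLinearMap (Submonoid.powers (aa D bb i)) (D.M i) x := rfl

theorem gMap_smul {i j : ℕ} (h : j = i) (a : D.A i) (x : D.M i) :
    gMap D bb h (a • x) = algebraMap (D.A j) (Localization.Away (aa D bb j)) (castA D h a) • gMap D bb h x := by
  subst h
  show LocalizedModule.mkLinearMap (Submonoid.powers (aa D bb j)) (D.M j) (a • x) = _
  rw [map_smul, ← IsScalarTower.algebraMap_smul (Localization.Away (aa D bb j))]
  rfl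

theorem gMap_isLocalized {i j : ℕ} (h : j = i)
    (mX : Module (D.A i) (LocalizedModule (Submonoid.powers (aa D bb j)) (D.M j)))
    (hm : ∀ (a : D.A i) (y : LocalizedModule (Submonoid.powers (aa D bb j)) (D.M j)),
      (letI := mX; a • y) = algebraMap (D.A j) (Localization.Away (aa D bb j)) (castA D h a) • y)
    (g : letI := mX; D.M i →ₗ[D.A i] LocalizedModule (Submonoid.powers (aa D bb j)) (D.M j))
    (hg : ∀ x, g x = gMap D bb h x) :
    letI := mX; IsLocalizedModule (Submonoid.powers (aa D bb i)) g := by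
  subst h
  obtain rfl : mX = canMod (Submonoid.powers (aa D bb j)) :=
    Module.ext' _ _ fun a y => (hm a y).trans (IsScalarTower.algebraMap_smul _ a y)
  obtain rfl : g = LocalizedModule.mkLinearMap (Submonoid.powers (aa D bb j)) (D.M j) := LinearMap.ext hg
  infer_instance

theorem comap_cast {i j : ℕ} (h : j = i) (F : ∀ k, Ideal (D.A k)) : (F j).comap (castA D h).toRingHom = F i := by
  subst h
  exact Ideal.comap_id _

theorem comap_castB {i j : ℕ} (h : j = i) (F : ∀ k, Ideal (D.B k)) : (F j).comap (castB D h).toRingHom = F i := by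
  subst h
  exact Ideal.comap_id _

end Cast

section Build

set_option maxHeartbeats 3200000

open TensorProduct in
/-- A compatible family of elements gives a standard shrinking. -/
theorem build
    (R S : Type u) [CommRing R] [CommRing S] [Algebra R S] [Algebra.FiniteType R S]
    (N : Type u) [AddCommGroup N] [Module S N] [Module.Finite S N]
    (p : Ideal R) [p.IsPrime] (q : Ideal S) [q.IsPrime] (𝒟 : FlatCA.CompleteDevissage R S N p)
    (𝒜 : FlatCA.CompleteDevissageAt R S N p q 𝒟)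
    (w : ∀ i, 𝒟.B i) (hw : ∀ i, i < 𝒟.n → w i ∉ 𝒜.qB i)
    (hcompat : ∀ i, i + 1 < 𝒟.n → algebraMap (𝒟.B i) (𝒟.A (i + 1)) (w i) = algebraMap (𝒟.B (i + 1)) (𝒟.A (i + 1)) (w (i + 1)))
    (x : S) (hxq : x ∉ q) (hx : algebraMap S (𝒟.A 0) x = algebraMap (𝒟.B 0) (𝒟.A 0) (w 0)) :
    ∃ (g : R) (hX : S), g ∉ p ∧ hX ∉ q ∧ hX = x * algebraMap R S g ∧
      ∃ (_ : Algebra (Localization.Away g) (Localization.Away hX)) (_ : IsScalarTower R (Localization.Away g) (Localization.Away hX))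
        (_ : Module (Localization.Away g) (LocalizedModule (Submonoid.powers hX) N)) (_ : IsScalarTower (Localization.Away g) (Localization.Away hX) (LocalizedModule (Submonoid.powers hX) N))
        (_ : (Ideal.map (algebraMap R (Localization.Away g)) p).IsPrime) (_ : (Ideal.map (algebraMap S (Localization.Away hX)) q).IsPrime)
        (𝒟' : FlatCA.CompleteDevissage (Localization.Away g) (Localization.Away hX) (LocalizedModule (Submonoid.powers hX) N) (Ideal.map (algebraMap R (Localization.Away g)) p))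
        (𝒜' : FlatCA.CompleteDevissageAt (Localization.Away g) (Localization.Away hX) (LocalizedModule (Submonoid.powers hX) N) (Ideal.map (algebraMap R (Localization.Away g)) p) (Ideal.map (algebraMap S (Localization.Away hX)) q) 𝒟')
        (a : ∀ i : Fin 𝒟.n, 𝒟.A i) (b : ∀ i : Fin 𝒟.n, 𝒟.B i)
      (aA : ∀ i : Fin 𝒟.n, Algebra (𝒟.A i) (𝒟'.A i)) (rA : ∀ i : Fin 𝒟.n, Algebra R (𝒟'.A i))
      (_t1 : ∀ i : Fin 𝒟.n, IsScalarTower R (Localization.Away g) (𝒟'.A i)) (_t2 : ∀ i : Fin 𝒟.n, IsScalarTower R (𝒟.A i) (𝒟'.A i))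
      (aB : ∀ i : Fin 𝒟.n, Algebra (𝒟.B i) (𝒟'.B i)) (rB : ∀ i : Fin 𝒟.n, Algebra R (𝒟'.B i))
      (_t3 : ∀ i : Fin 𝒟.n, IsScalarTower R (Localization.Away g) (𝒟'.B i)) (_t4 : ∀ i : Fin 𝒟.n, IsScalarTower R (𝒟.B i) (𝒟'.B i))
      (bA : ∀ i : Fin 𝒟.n, Algebra (𝒟.B i) (𝒟'.A i)) (_t5 : ∀ i : Fin 𝒟.n, IsScalarTower (𝒟.B i) (𝒟.A i) (𝒟'.A i))
      (_t6 : ∀ i : Fin 𝒟.n, IsScalarTower (𝒟.B i) (𝒟'.B i) (𝒟'.A i))
      (bA' : ∀ i : Fin 𝒟.n, Algebra (𝒟.B i) (𝒟'.A (i + 1)))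
      (_t7 : ∀ i : Fin 𝒟.n, IsScalarTower (𝒟.B i) (𝒟'.B i) (𝒟'.A (i + 1)))
      (sA : Algebra S (𝒟'.A 0)) (_t8 : IsScalarTower S (Localization.Away hX) (𝒟'.A 0))
      (mA : ∀ i : Fin 𝒟.n, Module (𝒟.A i) (𝒟'.M i)) (_t9 : ∀ i : Fin 𝒟.n, IsScalarTower (𝒟.A i) (𝒟'.A i) (𝒟'.M i))
      (gM : ∀ i : Fin 𝒟.n, 𝒟.M i →ₗ[𝒟.A i] 𝒟'.M i),
        𝒟'.n = 𝒟.n ∧ 𝒟'.r = 𝒟.r ∧ 𝒜'.d = 𝒜.d ∧
        (letI := aA ⟨0, 𝒟.pos⟩; IsScalarTower S (𝒟.A 0) (𝒟'.A 0)) ∧
      (∀ x : N, 𝒟'.isoN (LocalizedModule.mkLinearMap (Submonoid.powers hX) N x) = gM ⟨0, 𝒟.pos⟩ (𝒟.isoN x)) ∧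
      (∀ (i : Fin 𝒟.n) (h : (i : ℕ) + 1 < 𝒟.n),
        letI := aA ⟨i + 1, h⟩; IsScalarTower (𝒟.B i) (𝒟.A (i + 1)) (𝒟'.A (i + 1))) ∧
        (∀ i : Fin 𝒟.n, b i = w i * algebraMap R (𝒟.B i) g) ∧
        ∀ i : Fin 𝒟.n,
          a i ∉ 𝒜.qA i ∧ b i ∉ 𝒜.qB i ∧
          IsLocalization.Away (a i) (𝒟'.A i) ∧ IsLocalization.Away (b i) (𝒟'.B i) ∧
          IsLocalizedModule (Submonoid.powers (a i)) (gM i) ∧
          (𝒜'.qA i).LiesOver (𝒜.qA i) ∧ (𝒜'.qB i).LiesOver (𝒜.qB i) ∧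
          LinearMap.range (𝒟'.α i) =
            Submodule.span (𝒟'.B i) ((gM i) '' (LinearMap.range (𝒟.α i) : Set (𝒟.M i))) := by
  classical
  haveI : ∀ i, (𝒜.qA i).IsPrime := 𝒜.hqA
  haveI : ∀ i, (𝒜.qB i).IsPrime := 𝒜.hqB
  haveI : ∀ i, (𝒜.qB i).LiesOver p := 𝒜.overB
  haveI : ∀ i, (𝒜.qA i).LiesOver (𝒜.qB i) := 𝒜.overA
  haveI : ∀ i, Algebra.Smooth R (𝒟.B (cI 𝒟 i)) := fun i => 𝒟.smooth _ (cI_lt 𝒟 i)
  -- the open of the base
  let V : Fin 𝒟.n → Set (PrimeSpectrum R) := fun i =>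
    PrimeSpectrum.comap (algebraMap R (𝒟.B i)) '' (PrimeSpectrum.basicOpen (w i) : Set _)
  have hV : IsOpen (⋂ i, V i) := isOpen_iInter_of_finite fun i => by
    haveI : Algebra.Smooth R (𝒟.B i) := 𝒟.smooth i i.2
    exact PrimeSpectrum.isOpenMap_comap_of_hasGoingDown_of_finitePresentation _ (PrimeSpectrum.isOpen_basicOpen)
  have hpV : (⟨p, inferInstance⟩ : PrimeSpectrum R) ∈ ⋂ i, V i := Set.mem_iInter.mpr fun i =>
    ⟨⟨𝒜.qB i, inferInstance⟩, hw i i.2, PrimeSpectrum.ext (Ideal.LiesOver.over (p := p) (P := 𝒜.qB i)).symm⟩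
  obtain ⟨-, ⟨_, ⟨g, rfl⟩, rfl⟩, hgp, hg⟩ :=
    PrimeSpectrum.isBasis_basic_opens.exists_subset_of_mem_open hpV hV
  let bb : ∀ i, 𝒟.B i := fun i => w i * algebraMap R (𝒟.B i) g
  let hX := x * algebraMap R S g
  have hbq : ∀ i, i < 𝒟.n → bb i ∉ 𝒜.qB i := fun i hi h =>
    ((𝒜.hqB i).mem_or_mem h).elim (hw i hi) fun h' => hgp ((Ideal.mem_of_liesOver (𝒜.qB i) p g).mpr h')
  have haq : ∀ i, i < 𝒟.n → aa 𝒟 bb i ∉ 𝒜.qA i := fun i hi h =>
    hbq i hi ((Ideal.mem_of_liesOver (𝒜.qA i) (𝒜.qB i) (bb i)).mpr h)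
  have hcomp : ∀ i, i + 1 < 𝒟.n → algebraMap (𝒟.B i) (𝒟.A (i + 1)) (bb i) = aa 𝒟 bb (i + 1) := fun i hi => by
    simp only [bb, map_mul, hcompat i hi, ← IsScalarTower.algebraMap_apply]
  have hX0 : algebraMap S (𝒟.A 0) hX = aa 𝒟 bb 0 := by
    simp only [bb, hX, map_mul, hx, ← IsScalarTower.algebraMap_apply]
  have hXq : hX ∉ q := fun h => haq 0 𝒟.pos (hX0 ▸ (show hX ∈ (𝒜.qA 0).comap (algebraMap S (𝒟.A 0)) from 𝒜.q0.symm ▸ h))
  refine ⟨g, hX, hgp, hXq, rfl, ?_⟩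
  let R' := Localization.Away g
  let S' := Localization.Away hX
  let N' := LocalizedModule (Submonoid.powers hX) N
  let A₁ := AA 𝒟 bb
  let B₁ := BB 𝒟 bb
  let M₁ := MM 𝒟 bb
  have hgB : ∀ i, IsUnit (algebraMap R (B₁ i) g) := fun i => by
    rw [IsScalarTower.algebraMap_apply R (𝒟.B (cI 𝒟 i)) (B₁ i)]
    exact isUnit_of_dvd_unit (map_dvd _ (Dvd.intro_left (w (cI 𝒟 i)) rfl)) (IsLocalization.Away.algebraMap_isUnit (bb (cI 𝒟 i)))
  have hgA : ∀ i, IsUnit (algebraMap R (A₁ i) g) := fun i => by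
    rw [IsScalarTower.algebraMap_apply R (𝒟.A (cI 𝒟 i)) (A₁ i), IsScalarTower.algebraMap_apply R (𝒟.B (cI 𝒟 i)) (𝒟.A (cI 𝒟 i))]
    exact isUnit_of_dvd_unit (map_dvd _ (map_dvd _ (Dvd.intro_left (w (cI 𝒟 i)) rfl))) (IsLocalization.Away.algebraMap_isUnit (aa 𝒟 bb (cI 𝒟 i)))
  have hgS : IsUnit (algebraMap R S' g) := by
    rw [IsScalarTower.algebraMap_apply R S S']
    exact isUnit_of_dvd_unit (map_dvd _ (Dvd.intro_left x rfl)) (IsLocalization.Away.algebraMap_isUnit hX)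
  letI aRS : Algebra R' S' := (IsLocalization.Away.lift g hgS).toAlgebra
  haveI tRS : IsScalarTower R R' S' := IsScalarTower.of_algebraMap_eq fun y => (IsLocalization.Away.lift_eq g hgS y).symm
  letI aRA : ∀ i, Algebra R' (A₁ i) := fun i => (IsLocalization.Away.lift g (hgA i)).toAlgebra
  haveI tRA : ∀ i, IsScalarTower R R' (A₁ i) := fun i => IsScalarTower.of_algebraMap_eq fun y => (IsLocalization.Away.lift_eq g (hgA i) y).symm
  letI aRB : ∀ i, Algebra R' (B₁ i) := fun i => (IsLocalization.Away.lift g (hgB i)).toAlgebra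
  haveI tRB : ∀ i, IsScalarTower R R' (B₁ i) := fun i => IsScalarTower.of_algebraMap_eq fun y => (IsLocalization.Away.lift_eq g (hgB i) y).symm
  have hu : ∀ i, IsUnit (algebraMap (𝒟.B (cI 𝒟 i)) (A₁ i) (bb (cI 𝒟 i))) := fun i => by
    rw [IsScalarTower.algebraMap_apply (𝒟.B (cI 𝒟 i)) (𝒟.A (cI 𝒟 i)) (A₁ i)]
    exact IsLocalization.Away.algebraMap_isUnit (aa 𝒟 bb (cI 𝒟 i))
  letI aBA : ∀ i, Algebra (B₁ i) (A₁ i) := fun i => (IsLocalization.Away.lift (bb (cI 𝒟 i)) (hu i)).toAlgebra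
  haveI tB0 : ∀ i, IsScalarTower (𝒟.B (cI 𝒟 i)) (B₁ i) (A₁ i) := fun i =>
    IsScalarTower.of_algebraMap_eq fun y => (IsLocalization.Away.lift_eq (bb (cI 𝒟 i)) (hu i) y).symm
  haveI tRBA : ∀ i, IsScalarTower R' (B₁ i) (A₁ i) := fun i => IsScalarTower.of_algebraMap_eq' (IsLocalization.ringHom_ext (Submonoid.powers g) (by
    rw [RingHom.comp_assoc, ← IsScalarTower.algebraMap_eq R R' (B₁ i), ← IsScalarTower.algebraMap_eq R R' (A₁ i),
      IsScalarTower.algebraMap_eq R (𝒟.B (cI 𝒟 i)) (B₁ i), ← RingHom.comp_assoc, ← IsScalarTower.algebraMap_eq (𝒟.B (cI 𝒟 i)) (B₁ i) (A₁ i),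
      ← IsScalarTower.algebraMap_eq R (𝒟.B (cI 𝒟 i)) (A₁ i)]))
  let f' : ∀ i, 𝒟.B (cI 𝒟 i) →ₐ[R] A₁ (i + 1) := fun i =>
    (IsScalarTower.toAlgHom R (𝒟.A (cI 𝒟 (i + 1))) (A₁ (i + 1))).comp (phi 𝒟 (cI 𝒟 i) (cI 𝒟 (i + 1)) (cI_step 𝒟 i))
  have hu' : ∀ i, IsUnit ((f' i).toRingHom (bb (cI 𝒟 i))) := fun i => by
    show IsUnit (algebraMap (𝒟.A (cI 𝒟 (i + 1))) (A₁ (i + 1)) (phi 𝒟 _ _ _ (bb (cI 𝒟 i))))
    rw [phi_bb 𝒟 bb hcomp _ _ (cI_lt 𝒟 _)]
    exact IsLocalization.Away.algebraMap_isUnit (aa 𝒟 bb (cI 𝒟 (i + 1)))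
  letI aBA' : ∀ i, Algebra (B₁ i) (A₁ (i + 1)) := fun i => (IsLocalization.Away.lift (bb (cI 𝒟 i)) (hu' i)).toAlgebra
  have hBA' : ∀ i y, algebraMap (B₁ i) (A₁ (i + 1)) (algebraMap (𝒟.B (cI 𝒟 i)) (B₁ i) y) = f' i y := fun i y =>
    IsLocalization.Away.lift_eq (bb (cI 𝒟 i)) (hu' i) y
  haveI tRBA' : ∀ i, IsScalarTower R' (B₁ i) (A₁ (i + 1)) := fun i => IsScalarTower.of_algebraMap_eq' (IsLocalization.ringHom_ext (Submonoid.powers g) (RingHom.ext fun y => by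
    show algebraMap R' (A₁ (i + 1)) (algebraMap R R' y) = algebraMap (B₁ i) (A₁ (i + 1)) (algebraMap R' (B₁ i) (algebraMap R R' y))
    rw [← IsScalarTower.algebraMap_apply R R' (A₁ (i + 1)), ← IsScalarTower.algebraMap_apply R R' (B₁ i),
      IsScalarTower.algebraMap_apply R (𝒟.B (cI 𝒟 i)) (B₁ i), hBA', AlgHom.commutes]))
  letI sA : Algebra S (A₁ 0) := RingHom.toAlgebra (RingHom.comp
    (algebraMap (𝒟.A (cI 𝒟 0)) (A₁ 0) : 𝒟.A 0 →+* A₁ 0) (algebraMap S (𝒟.A 0)))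
  haveI : IsScalarTower R S (A₁ 0) := IsScalarTower.of_algebraMap_eq fun y => by
    show algebraMap R (A₁ 0) y = algebraMap (𝒟.A (cI 𝒟 0)) (A₁ 0) (algebraMap S (𝒟.A 0) (algebraMap R S y))
    rw [← IsScalarTower.algebraMap_apply R S (𝒟.A 0)]
    exact IsScalarTower.algebraMap_apply R (𝒟.A (cI 𝒟 0)) (A₁ 0) y
  have huS : IsUnit (algebraMap S (A₁ 0) hX) := by
    show IsUnit (algebraMap (𝒟.A (cI 𝒟 0)) (A₁ 0) (algebraMap S (𝒟.A 0) hX))
    rw [hX0]
    exact IsLocalization.Away.algebraMap_isUnit (aa 𝒟 bb (cI 𝒟 0))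
  letI aSA : Algebra S' (A₁ 0) := (IsLocalization.Away.lift hX huS).toAlgebra
  haveI t8 : IsScalarTower S S' (A₁ 0) := IsScalarTower.of_algebraMap_eq fun y => (IsLocalization.Away.lift_eq hX huS y).symm
  haveI tRSA : IsScalarTower R' S' (A₁ 0) := IsScalarTower.of_algebraMap_eq' (IsLocalization.ringHom_ext (Submonoid.powers g) (RingHom.ext fun y => by
    show algebraMap R' (A₁ 0) (algebraMap R R' y) = algebraMap S' (A₁ 0) (algebraMap R' S' (algebraMap R R' y))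
    rw [← IsScalarTower.algebraMap_apply R R' (A₁ 0), ← IsScalarTower.algebraMap_apply R R' S',
      IsScalarTower.algebraMap_apply R S S', ← IsScalarTower.algebraMap_apply S S' (A₁ 0), ← IsScalarTower.algebraMap_apply R S (A₁ 0)]))
  letI mRN : Module R' N' := Module.compHom N' (algebraMap R' S')
  haveI tRN : IsScalarTower R' S' N' := IsScalarTower.of_algebraMap_smul fun _ _ => rfl
  letI mBM : ∀ i, Module (B₁ i) (M₁ i) := fun i => Module.compHom _ (algebraMap (B₁ i) (A₁ i))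
  haveI tBAM : ∀ i, IsScalarTower (B₁ i) (A₁ i) (M₁ i) := fun i => IsScalarTower.of_algebraMap_smul fun _ _ => rfl
  letI mRM : ∀ i, Module R' (M₁ i) := fun i => Module.compHom _ (algebraMap R' (B₁ i))
  haveI tRBM : ∀ i, IsScalarTower R' (B₁ i) (M₁ i) := fun i => IsScalarTower.of_algebraMap_smul fun _ _ => rfl
  letI mSM : Module S' (M₁ 0) := Module.compHom _ (algebraMap S' (A₁ 0))
  haveI tSAM : IsScalarTower S' (A₁ 0) (M₁ 0) := IsScalarTower.of_algebraMap_smul fun _ _ => rfl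
  letI mB'M : ∀ i, Module (B₁ i) (M₁ (i + 1)) := fun i => Module.compHom _ (algebraMap (B₁ i) (A₁ (i + 1)))
  haveI tB'AM : ∀ i, IsScalarTower (B₁ i) (A₁ (i + 1)) (M₁ (i + 1)) := fun i => IsScalarTower.of_algebraMap_smul fun _ _ => rfl
  -- the structures over the old rings
  let j : ∀ i : Fin 𝒟.n, cI 𝒟 i = i := fun i => cI_eq 𝒟 i.2
  letI aA : ∀ i : Fin 𝒟.n, Algebra (𝒟.A i) (A₁ i) := fun i =>
    ((algebraMap (𝒟.A (cI 𝒟 i)) (A₁ i)).comp (castA 𝒟 (j i)).toRingHom).toAlgebra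
  letI aB : ∀ i : Fin 𝒟.n, Algebra (𝒟.B i) (B₁ i) := fun i =>
    ((algebraMap (𝒟.B (cI 𝒟 i)) (B₁ i)).comp (castB 𝒟 (j i)).toRingHom).toAlgebra
  haveI t2 : ∀ i : Fin 𝒟.n, IsScalarTower R (𝒟.A i) (A₁ i) := fun i => (locA 𝒟 bb (j i) (aA i) fun _ => rfl).1
  haveI lA : ∀ i : Fin 𝒟.n, IsLocalization.Away (aa 𝒟 bb i) (A₁ i) := fun i => (locA 𝒟 bb (j i) (aA i) fun _ => rfl).2
  haveI t4 : ∀ i : Fin 𝒟.n, IsScalarTower R (𝒟.B i) (B₁ i) := fun i => (locB 𝒟 bb (j i) (aB i) fun _ => rfl).1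
  haveI lB : ∀ i : Fin 𝒟.n, IsLocalization.Away (bb i) (B₁ i) := fun i => (locB 𝒟 bb (j i) (aB i) fun _ => rfl).2
  letI bA : ∀ i : Fin 𝒟.n, Algebra (𝒟.B i) (A₁ i) := fun i =>
    ((algebraMap (B₁ i) (A₁ i)).comp (algebraMap (𝒟.B i) (B₁ i))).toAlgebra
  haveI t6 : ∀ i : Fin 𝒟.n, IsScalarTower (𝒟.B i) (B₁ i) (A₁ i) := fun i => IsScalarTower.of_algebraMap_eq fun _ => rfl
  haveI t5 : ∀ i : Fin 𝒟.n, IsScalarTower (𝒟.B i) (𝒟.A i) (A₁ i) := fun i =>
    IsScalarTower.of_algebraMap_eq fun y => by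
      show algebraMap (B₁ i) (A₁ i) (algebraMap (𝒟.B (cI 𝒟 i)) (B₁ i) (castB 𝒟 (j i) y)) =
        algebraMap (𝒟.A (cI 𝒟 i)) (A₁ i) (castA 𝒟 (j i) (algebraMap (𝒟.B i) (𝒟.A i) y))
      rw [← square_A 𝒟 (j i) y, ← IsScalarTower.algebraMap_apply, ← IsScalarTower.algebraMap_apply]
  letI bA' : ∀ i : Fin 𝒟.n, Algebra (𝒟.B i) (A₁ (i + 1)) := fun i =>
    ((algebraMap (B₁ i) (A₁ (i + 1))).comp (algebraMap (𝒟.B i) (B₁ i))).toAlgebra
  haveI t7 : ∀ i : Fin 𝒟.n, IsScalarTower (𝒟.B i) (B₁ i) (A₁ (i + 1)) := fun i => IsScalarTower.of_algebraMap_eq fun _ => rfl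
  letI aA1 : ∀ (i : Fin 𝒟.n) (h : (i : ℕ) + 1 < 𝒟.n), Algebra (𝒟.A (i + 1)) (A₁ (i + 1)) := fun i h => aA ⟨i + 1, h⟩
  have t10 : ∀ (i : Fin 𝒟.n) (h : (i : ℕ) + 1 < 𝒟.n),
      letI := aA1 i h; IsScalarTower (𝒟.B i) (𝒟.A (i + 1)) (A₁ (i + 1)) := fun i h =>
    letI := aA1 i h
    IsScalarTower.of_algebraMap_eq fun y => (hBA' i (castB 𝒟 (j i) y)).trans
      (congrArg (algebraMap (𝒟.A (cI 𝒟 (i + 1))) (A₁ (i + 1))) (square_A' 𝒟 (j i) (j ⟨i + 1, h⟩) (cI_step 𝒟 i) y))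
  letI mA : ∀ i : Fin 𝒟.n, Module (𝒟.A i) (M₁ i) := fun i => Module.compHom _ (algebraMap (𝒟.A i) (A₁ i))
  haveI t9 : ∀ i : Fin 𝒟.n, IsScalarTower (𝒟.A i) (A₁ i) (M₁ i) := fun i => IsScalarTower.of_algebraMap_smul fun _ _ => rfl
  let gM : ∀ i : Fin 𝒟.n, 𝒟.M i →ₗ[𝒟.A i] M₁ i := fun i =>
    { toFun := gMap 𝒟 bb (j i)
      map_add' := map_add _
      map_smul' := fun a y => gMap_smul 𝒟 bb (j i) a y }
  haveI hloc : ∀ i : Fin 𝒟.n, IsLocalizedModule (Submonoid.powers (aa 𝒟 bb i)) (gM i) := fun i =>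
    gMap_isLocalized 𝒟 bb (j i) (mA i) (fun _ _ => rfl) (gM i) fun _ => rfl
  have hgM : ∀ i : Fin 𝒟.n, IsBaseChange (A₁ i) (gM i) := fun i =>
    (isLocalizedModule_iff_isBaseChange (Submonoid.powers (aa 𝒟 bb i)) (A₁ i) _).mp (hloc i)
  haveI poBA : ∀ i : Fin 𝒟.n, Algebra.IsPushout (𝒟.B i) (B₁ i) (𝒟.A i) (A₁ i) := fun i =>
    pushout_away (bb i) (aa 𝒟 bb i) rfl
  letI mBM0 : ∀ i : Fin 𝒟.n, Module (𝒟.B i) (M₁ i) := fun i => Module.compHom _ (algebraMap (𝒟.B i) (A₁ i))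
  haveI tBA0 : ∀ i : Fin 𝒟.n, IsScalarTower (𝒟.B i) (A₁ i) (M₁ i) := fun i => IsScalarTower.of_algebraMap_smul fun _ _ => rfl
  haveI : ∀ i : Fin 𝒟.n, IsScalarTower (𝒟.B i) (𝒟.A i) (M₁ i) := fun i => IsScalarTower.of_algebraMap_smul fun b y => by
    show algebraMap (𝒟.A i) (A₁ i) (algebraMap (𝒟.B i) (𝒟.A i) b) • y = algebraMap (𝒟.B i) (A₁ i) b • y
    rw [← IsScalarTower.algebraMap_apply]
  haveI : ∀ i : Fin 𝒟.n, IsScalarTower (𝒟.B i) (B₁ i) (M₁ i) := fun i => IsScalarTower.of_algebraMap_smul fun _ _ => rfl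
  have hgB' : ∀ i : Fin 𝒟.n, IsBaseChange (B₁ i) ((gM i).restrictScalars (𝒟.B i)) := fun i =>
    S12243.isBaseChange_restrict (gM i) (hgM i)
  let α' : ∀ i, (Fin (𝒟.r i) → B₁ i) →ₗ[B₁ i] M₁ i := fun i =>
    if h : i < 𝒟.n then Fintype.linearCombination (B₁ i) (fun m => gM ⟨i, h⟩ (𝒟.α i (Pi.single m 1))) else 0
  have hα' : ∀ (i : Fin 𝒟.n) m, α' i (Pi.single m 1) = gM i (𝒟.α i (Pi.single m 1)) := fun i m => by
    simp only [α', dif_pos i.2]
    rw [Fintype.linearCombination_apply_single, one_smul]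
  have hrange : ∀ i : Fin 𝒟.n, LinearMap.range (α' i) =
      Submodule.span (B₁ i) ((gM i) '' (LinearMap.range (𝒟.α i) : Set (𝒟.M i))) := fun i => by
    refine le_antisymm ?_ (Submodule.span_le.mpr ?_)
    · rintro _ ⟨v, rfl⟩
      rw [pi_eq_sum_univ' v, map_sum]
      refine Submodule.sum_mem _ fun m _ => ?_
      rw [map_smul, hα']
      exact Submodule.smul_mem _ _ (Submodule.subset_span ⟨_, ⟨_, rfl⟩, rfl⟩)
    · rintro _ ⟨_, ⟨v, rfl⟩, rfl⟩
      rw [pi_eq_sum_univ' v, map_sum, map_sum]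
      refine Submodule.sum_mem _ fun m _ => ?_
      rw [map_smul]
      show ((gM i).restrictScalars (𝒟.B i)) _ ∈ _
      rw [map_smul, ← algebraMap_smul (B₁ i), LinearMap.restrictScalars_apply]
      exact Submodule.smul_mem _ _ ⟨Pi.single m 1, hα' i m⟩
  -- the primes
  let p' := p.map (algebraMap R R')
  let q' := q.map (algebraMap S S')
  haveI hp' : p'.IsPrime := prime_map g hgp
  haveI hq' : q'.IsPrime := prime_map hX hXq
  have hp'c : p'.comap (algebraMap R R') = p := comap_map g hgp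
  have hover : ∀ P : PrimeSpectrum R', P.asIdeal = p' ↔ P.asIdeal.comap (algebraMap R R') = p := fun P =>
    ⟨fun h => h ▸ hp'c, fun h => by
      rw [← IsLocalization.map_under (Submonoid.powers g) R' P.asIdeal]
      exact congrArg (Ideal.map (algebraMap R R')) h⟩
  let qB' : ∀ i, Ideal (B₁ i) := fun i => (𝒜.qB (cI 𝒟 i)).map (algebraMap (𝒟.B (cI 𝒟 i)) (B₁ i))
  let qA' : ∀ i, Ideal (A₁ i) := fun i => (𝒜.qA (cI 𝒟 i)).map (algebraMap (𝒟.A (cI 𝒟 i)) (A₁ i))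
  haveI hqB' : ∀ i, (qB' i).IsPrime := fun i => prime_map (bb (cI 𝒟 i)) (hbq _ (cI_lt 𝒟 i))
  haveI hqA' : ∀ i, (qA' i).IsPrime := fun i => prime_map (aa 𝒟 bb (cI 𝒟 i)) (haq _ (cI_lt 𝒟 i))
  have hcB : ∀ i, (qB' i).comap (algebraMap (𝒟.B (cI 𝒟 i)) (B₁ i)) = 𝒜.qB (cI 𝒟 i) := fun i =>
    comap_map (bb (cI 𝒟 i)) (hbq _ (cI_lt 𝒟 i))
  have hcA : ∀ i, (qA' i).comap (algebraMap (𝒟.A (cI 𝒟 i)) (A₁ i)) = 𝒜.qA (cI 𝒟 i) := fun i =>
    comap_map (aa 𝒟 bb (cI 𝒟 i)) (haq _ (cI_lt 𝒟 i))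
  haveI overB' : ∀ i, (qB' i).LiesOver p' := fun i => ⟨(comap_eq_map (C := 𝒟.B (cI 𝒟 i)) g (qB' i) p (by
    rw [hcB]; exact (Ideal.LiesOver.over (P := 𝒜.qB (cI 𝒟 i)) (p := p)).symm)).symm⟩
  haveI overA' : ∀ i, (qA' i).LiesOver (qB' i) := fun i => ⟨(comap_eq_map (C := 𝒟.A (cI 𝒟 i)) (bb (cI 𝒟 i)) (qA' i) (𝒜.qB (cI 𝒟 i)) (by
    rw [hcA]; exact (Ideal.LiesOver.over (P := 𝒜.qA (cI 𝒟 i)) (p := 𝒜.qB (cI 𝒟 i))).symm)).symm⟩
  have hcA' : ∀ i : Fin 𝒟.n, (qA' i).comap (algebraMap (𝒟.A i) (A₁ i)) = 𝒜.qA i := fun i => by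
    show (qA' i).comap ((algebraMap (𝒟.A (cI 𝒟 i)) (A₁ i)).comp (castA 𝒟 (j i)).toRingHom) = 𝒜.qA i
    rw [← Ideal.comap_comap, hcA, comap_cast 𝒟 (j i) 𝒜.qA]
  have hcB' : ∀ i : Fin 𝒟.n, (qB' i).comap (algebraMap (𝒟.B i) (B₁ i)) = 𝒜.qB i := fun i => by
    show (qB' i).comap ((algebraMap (𝒟.B (cI 𝒟 i)) (B₁ i)).comp (castB 𝒟 (j i)).toRingHom) = 𝒜.qB i
    rw [← Ideal.comap_comap, hcB, comap_castB 𝒟 (j i) 𝒜.qB]
  have hpq : ∀ i, p.map (algebraMap R (𝒟.B i)) ≤ 𝒜.qB i := fun i =>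
    Ideal.map_le_iff_le_comap.mpr (Ideal.LiesOver.over (P := 𝒜.qB i) (p := p)).le
  have hpB : ∀ i, p'.map (algebraMap R' (B₁ i)) = (p.map (algebraMap R (𝒟.B (cI 𝒟 i)))).map (algebraMap (𝒟.B (cI 𝒟 i)) (B₁ i)) := fun i => by
    rw [Ideal.map_map, Ideal.map_map, ← IsScalarTower.algebraMap_eq, ← IsScalarTower.algebraMap_eq]
  haveI hp₁ : ∀ i, (p'.map (algebraMap R' (B₁ i))).IsPrime := fun i => by
    haveI := 𝒟.hp (cI 𝒟 i)
    rw [hpB i]
    exact prime_map (bb (cI 𝒟 i)) fun h => hbq _ (cI_lt 𝒟 i) (hpq _ h)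
  -- smoothness
  have hsg : ∀ i, FlatCA.SmoothRelDim (𝒜.d (cI 𝒟 i)) R' (B₁ i) ∧ FlatCA.GeomIrredFibres R' (B₁ i) := fun i => by
    haveI : IsLocalization.Away (w (cI 𝒟 i) * algebraMap R (𝒟.B (cI 𝒟 i)) g) (B₁ i) :=
      inferInstanceAs (IsLocalization.Away (bb (cI 𝒟 i)) (B₁ i))
    refine S12242.smooth_geomIrred_shrink _ (𝒜.relDim _ (cI_lt 𝒟 i)) (𝒟.geomIrred _ (cI_lt 𝒟 i)) g (w (cI 𝒟 i)) R' (B₁ i) fun P hP => ?_
    obtain ⟨Q, hQ, hQP⟩ := Set.mem_iInter.mp (hg (show P ∈ PrimeSpectrum.basicOpen g from hP)) ⟨cI 𝒟 i, cI_lt 𝒟 i⟩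
    exact ⟨Q, hQ, hQP⟩
  let i₀ : Fin 𝒟.n := ⟨0, 𝒟.pos⟩
  letI aA0 : Algebra (𝒟.A 0) (A₁ 0) := aA i₀
  haveI t11 : IsScalarTower S (𝒟.A 0) (A₁ 0) := IsScalarTower.of_algebraMap_eq fun _ => rfl
  haveI : IsLocalization.Away (aa 𝒟 bb 0) (A₁ 0) := lA i₀
  haveI : Algebra.IsPushout S S' (𝒟.A 0) (A₁ 0) := pushout_away hX (aa 𝒟 bb 0) hX0
  letI : Module (𝒟.A 0) (M₁ 0) := mA i₀
  haveI : IsScalarTower (𝒟.A 0) (A₁ 0) (M₁ 0) := t9 i₀
  let g₀ : 𝒟.M 0 →ₗ[𝒟.A 0] M₁ 0 := gM i₀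
  have hg₀ : IsBaseChange (A₁ 0) g₀ := hgM i₀
  have hf : IsBaseChange S' (LocalizedModule.mkLinearMap (Submonoid.powers hX) N) :=
    (isLocalizedModule_iff_isBaseChange (Submonoid.powers hX) S' _).mp inferInstance
  let eN : N' ≃ₗ[S'] M₁ 0 := hf.equiv.symm ≪≫ₗ 𝒟.isoN.baseChange S S' ≪≫ₗ
    (Algebra.IsPushout.cancelBaseChange S S' (𝒟.A 0) (A₁ 0) (𝒟.M 0)).symm ≪≫ₗ hg₀.equiv.restrictScalars S'
  have hcoker : ∀ i, i + 1 < 𝒟.n → Nonempty ((M₁ i ⧸ LinearMap.range (α' i)) ≃ₗ[B₁ i] M₁ (i + 1)) := by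
    intro i hi
    obtain ⟨k, rfl⟩ : ∃ k : Fin 𝒟.n, (k : ℕ) = i := ⟨⟨i, by omega⟩, rfl⟩
    let k' : Fin 𝒟.n := ⟨k + 1, hi⟩
    letI := aA1 k hi
    haveI := t10 k hi
    haveI : IsLocalization.Away (aa 𝒟 bb (k + 1)) (A₁ (k + 1)) := lA k'
    haveI : Algebra.IsPushout (𝒟.B k) (B₁ k) (𝒟.A (k + 1)) (A₁ (k + 1)) := pushout_away (bb k) (aa 𝒟 bb (k + 1)) (hcomp k hi)
    letI : Module (𝒟.A (k + 1)) (M₁ (k + 1)) := mA k'
    haveI : IsScalarTower (𝒟.A (k + 1)) (A₁ (k + 1)) (M₁ (k + 1)) := t9 k'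
    letI : Module (𝒟.B k) (M₁ (k + 1)) := Module.compHom _ (algebraMap (𝒟.B k) (A₁ (k + 1)))
    haveI : IsScalarTower (𝒟.B k) (A₁ (k + 1)) (M₁ (k + 1)) := IsScalarTower.of_algebraMap_smul fun _ _ => rfl
    haveI : IsScalarTower (𝒟.B k) (B₁ k) (M₁ (k + 1)) := IsScalarTower.of_algebraMap_smul fun _ _ => rfl
    haveI : IsScalarTower (𝒟.B k) (𝒟.A (k + 1)) (M₁ (k + 1)) := IsScalarTower.of_algebraMap_smul fun b y => by
      show algebraMap (𝒟.A (k + 1)) (A₁ (k + 1)) (algebraMap (𝒟.B k) (𝒟.A (k + 1)) b) • y = algebraMap (𝒟.B k) (A₁ (k + 1)) b • y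
      rw [← IsScalarTower.algebraMap_apply]
    let g₂ : 𝒟.M (k + 1) →ₗ[𝒟.A (k + 1)] M₁ (k + 1) := gM k'
    have hg₂ : IsBaseChange (A₁ (k + 1)) g₂ := hgM k'
    let π : 𝒟.M k →ₗ[𝒟.B k] 𝒟.M (k + 1) := (𝒟.isoCoker k hi).toLinearMap ∘ₗ (LinearMap.range (𝒟.α k)).mkQ
    have hπ : Function.Surjective π := (𝒟.isoCoker k hi).surjective.comp (Submodule.mkQ_surjective _)
    have hker : LinearMap.ker π = LinearMap.range (𝒟.α k) := by
      rw [LinearMap.ker_comp, LinearEquiv.ker, Submodule.comap_bot, Submodule.ker_mkQ]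
    obtain ⟨e⟩ := coker_baseChange ((gM k).restrictScalars (𝒟.B k)) (hgB' k) (g₂.restrictScalars (𝒟.B k))
      (S12243.isBaseChange_restrict g₂ hg₂) π hπ
    rw [hker] at e
    exact ⟨(Submodule.quotEquivOfEq _ _ (hrange k)).trans e⟩
  let D' : FlatCA.CompleteDevissage R' S' N' p' :=
    { n := 𝒟.n, pos := 𝒟.pos, A := A₁, B := B₁, M := M₁, r := 𝒟.r, α := α'
      aBA := aBA, tRBA := tRBA, aSA := aSA, tRSA := tRSA, aBA' := aBA', tRBA' := tRBA'
      mBM := mBM, tBAM := tBAM, mRM := mRM, tRBM := tRBM, mSM := mSM, tSAM := tSAM, mB'M := mB'M, tB'AM := tB'AM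
      hp := hp₁
      surjSA := surjective_pushout (B := S) (A := 𝒟.A 0) 𝒟.surjSA
      fpSA := by
        haveI := 𝒟.fpSA
        exact Algebra.FinitePresentation.equiv (Algebra.IsPushout.equiv S S' (𝒟.A 0) (A₁ 0))
      surjBA' := fun i hi => by
        obtain ⟨k, rfl⟩ : ∃ k : Fin 𝒟.n, (k : ℕ) = i := ⟨⟨i, by omega⟩, rfl⟩
        letI := aA1 k hi
        haveI := t10 k hi
        haveI : IsLocalization.Away (aa 𝒟 bb (k + 1)) (A₁ (k + 1)) := lA ⟨k + 1, hi⟩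
        haveI : Algebra.IsPushout (𝒟.B k) (B₁ k) (𝒟.A (k + 1)) (A₁ (k + 1)) := pushout_away (bb k) (aa 𝒟 bb (k + 1)) (hcomp k hi)
        exact surjective_pushout (B := 𝒟.B k) (A := 𝒟.A (k + 1)) (𝒟.surjBA' k hi)
      fpBA' := fun i hi => by
        obtain ⟨k, rfl⟩ : ∃ k : Fin 𝒟.n, (k : ℕ) = i := ⟨⟨i, by omega⟩, rfl⟩
        letI := aA1 k hi
        haveI := t10 k hi
        haveI : IsLocalization.Away (aa 𝒟 bb (k + 1)) (A₁ (k + 1)) := lA ⟨k + 1, hi⟩
        haveI : Algebra.IsPushout (𝒟.B k) (B₁ k) (𝒟.A (k + 1)) (A₁ (k + 1)) := pushout_away (bb k) (aa 𝒟 bb (k + 1)) (hcomp k hi)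
        haveI := 𝒟.fpBA' k hi
        exact Algebra.FinitePresentation.equiv (Algebra.IsPushout.equiv (𝒟.B k) (B₁ k) (𝒟.A (k + 1)) (A₁ (k + 1)))
      finiteBA := fun i hi => by
        obtain ⟨k, rfl⟩ : ∃ k : Fin 𝒟.n, (k : ℕ) = i := ⟨⟨i, hi⟩, rfl⟩
        haveI := 𝒟.finiteBA k hi
        exact Module.Finite.equiv (Algebra.IsPushout.equiv (𝒟.B k) (B₁ k) (𝒟.A k) (A₁ k)).toLinearEquiv
      smooth := fun i _ => CAlg76.SmoothRelDim.smooth_of_rel (hsg i).1
      geomIrred := fun i _ => (hsg i).2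
      finiteM := fun i _ => by
        haveI := 𝒟.finiteM _ (cI_lt 𝒟 i)
        exact Module.Finite.of_isLocalizedModule (Submonoid.powers (aa 𝒟 bb (cI 𝒟 i))) (LocalizedModule.mkLinearMap (Submonoid.powers (aa 𝒟 bb (cI 𝒟 i))) (𝒟.M (cI 𝒟 i)))
      isoN := eN
      isoCoker := fun i hi => (hcoker i hi).some
      fibreIso := fun i hi => by
        obtain ⟨k, rfl⟩ : ∃ k : Fin 𝒟.n, (k : ℕ) = i := ⟨⟨i, hi⟩, rfl⟩
        let P := p.map (algebraMap R (𝒟.B k))
        let P' := p'.map (algebraMap R' (B₁ k))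
        haveI : P.IsPrime := 𝒟.hp k
        haveI : P'.IsPrime := hp₁ k
        have hPP : P = P'.comap (algebraMap (𝒟.B k) (B₁ k)) := by
          have hP' : P' = P.map (algebraMap (𝒟.B k) (B₁ k)) := by
            show (p.map _).map _ = (p.map _).map _
            rw [Ideal.map_map, Ideal.map_map, ← IsScalarTower.algebraMap_eq, ← IsScalarTower.algebraMap_eq]
          rw [hP']
          exact (comap_map (bb k) fun h => hbq _ k.2 (hpq _ h)).symm
        letI : Algebra P.ResidueField P'.ResidueField :=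
          (Ideal.ResidueField.map P P' (algebraMap (𝒟.B k) (B₁ k)) hPP).toAlgebra
        haveI : IsScalarTower (𝒟.B k) P.ResidueField P'.ResidueField := IsScalarTower.of_algebraMap_eq fun y => by
          rw [RingHom.algebraMap_toAlgebra, IsScalarTower.algebraMap_apply (𝒟.B k) (B₁ k) P'.ResidueField]
          exact (Ideal.ResidueField.map_algebraMap _ _ _ _ _).symm
        exact bijective_baseChange_fibre ((gM k).restrictScalars (𝒟.B k)) (hgB' k) (𝒟.α k) (α' k) (hα' k)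
          P.ResidueField P'.ResidueField (𝒟.fibreIso k hi)
      cokerLast := by
        let k : Fin 𝒟.n := ⟨𝒟.n - 1, by have := 𝒟.pos; omega⟩
        show Function.Surjective (α' k)
        rw [← LinearMap.range_eq_top, hrange k, eq_top_iff]
        intro y hy₀
        clear hy₀
        obtain ⟨z, rfl⟩ := (hgB' k).equiv.surjective y
        induction z using TensorProduct.induction_on with
        | zero => simp
        | tmul a m =>
          rw [IsBaseChange.equiv_tmul]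
          obtain ⟨v, rfl⟩ := 𝒟.cokerLast m
          exact Submodule.smul_mem _ _ (Submodule.subset_span ⟨_, ⟨v, rfl⟩, rfl⟩)
        | add x y hx hy => rw [map_add]; exact add_mem hx hy }
  let A' : FlatCA.CompleteDevissageAt R' S' N' p' q' D' :=
    { qB := qB', qA := qA', hqB := hqB', hqA := hqA', overB := overB', overA := overA'
      pureTrans := fun i _ => by
        haveI : p'.LiesOver p := ⟨hp'c.symm⟩
        haveI : (qB' i).LiesOver (𝒜.qB (cI 𝒟 i)) := ⟨(hcB i).symm⟩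
        exact S12242.pureTrans_of_surjective p p' (𝒜.qB (cI 𝒟 i)) (qB' i)
          (S12242.surjective_residueMap (Submonoid.powers g) p p' hp'c.symm)
          (S12242.surjective_residueMap (Submonoid.powers (bb (cI 𝒟 i))) (𝒜.qB (cI 𝒟 i)) (qB' i) (hcB i).symm)
          (𝒜.pureTrans _ (cI_lt 𝒟 i))
      uniq := fun i _ Q hQ hQB => by
        haveI := hQ
        haveI : Q.LiesOver (qB' i) := hQB
        rw [← IsLocalization.map_under (Submonoid.powers (aa 𝒟 bb (cI 𝒟 i))) (A₁ i) Q]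
        refine congrArg (Ideal.map (algebraMap (𝒟.A (cI 𝒟 i)) (A₁ i))) (𝒜.uniq _ (cI_lt 𝒟 i) _ ⟨?_⟩)
        show 𝒜.qB (cI 𝒟 i) = (Q.comap (algebraMap (𝒟.A (cI 𝒟 i)) (A₁ i))).comap (algebraMap (𝒟.B (cI 𝒟 i)) (𝒟.A (cI 𝒟 i)))
        rw [Ideal.comap_comap, ← IsScalarTower.algebraMap_eq, IsScalarTower.algebraMap_eq (𝒟.B (cI 𝒟 i)) (B₁ i) (A₁ i),
          ← Ideal.comap_comap]
        exact (hcB i).symm.trans (congrArg (Ideal.comap (algebraMap (𝒟.B (cI 𝒟 i)) (B₁ i))) (Ideal.LiesOver.over (P := Q) (p := qB' i)))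
      q0 := comap_eq_map (C := 𝒟.A 0) hX (qA' 0) q ((congrArg (Ideal.comap (algebraMap S (𝒟.A 0))) (hcA' i₀)).trans 𝒜.q0)
      qStep := fun i hi => by
        obtain ⟨k, rfl⟩ : ∃ k : Fin 𝒟.n, (k : ℕ) = i := ⟨⟨i, lt_trans (Nat.lt_succ_self i) hi⟩, rfl⟩
        letI := aA1 k hi
        haveI := t10 k hi
        have h2 : qB' k = (𝒜.qB k).map (algebraMap (𝒟.B k) (B₁ k)) := by
          rw [← hcB' k]
          exact (IsLocalization.map_under (Submonoid.powers (bb k)) (B₁ k) (qB' k)).symm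
        refine (comap_eq_map (C := 𝒟.A (k + 1)) (bb k) (qA' (k + 1)) (𝒜.qB k) ?_).trans h2.symm
        exact (congrArg (Ideal.comap (algebraMap (𝒟.B k) (𝒟.A (k + 1)))) (hcA' ⟨k + 1, hi⟩)).trans (𝒜.qStep k hi)
      d := 𝒜.d
      relDim := fun i hi => by
        show FlatCA.SmoothRelDim (𝒜.d i) R' (B₁ i)
        rw [← congrArg 𝒜.d (cI_eq 𝒟 hi)]
        exact (hsg i).1
      locDim := fun i hi => by
        obtain ⟨k, rfl⟩ : ∃ k : Fin 𝒟.n, (k : ℕ) = i := ⟨⟨i, hi⟩, rfl⟩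
        haveI := 𝒟.finiteBA k hi
        haveI := 𝒟.finiteM k hi
        haveI : Module.Finite (𝒟.B k) (𝒟.M k) := Module.Finite.trans (𝒟.A k) (𝒟.M k)
        exact locDim_shrink p p' (bb k) ((gM k).restrictScalars (𝒟.B k)) (hgB' k) hover (𝒜.qB k) (qB' k) (hcB' k)
          (𝒜.d k) (𝒜.locDim k hi) }
  refine ⟨aRS, tRS, mRN, tRN, hp', hq', D', A', fun i => aa 𝒟 bb i, fun i => bb i,
    aA, fun i => inferInstanceAs (Algebra R (A₁ i)), fun i => tRA i, t2,
    aB, fun i => inferInstanceAs (Algebra R (B₁ i)), fun i => tRB i, t4,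
    bA, t5, t6, bA', t7, sA, t8, mA, t9, gM, rfl, rfl, rfl, t11, ?_, t10, fun _ => rfl,
    fun i => ⟨haq i i.2, hbq i i.2, lA i, lB i, hloc i, ⟨(hcA' i).symm⟩, ⟨(hcB' i).symm⟩, hrange i⟩⟩
  intro y
  show eN (LocalizedModule.mkLinearMap (Submonoid.powers hX) N y) = g₀ (𝒟.isoN y)
  simp [eN, -LocalizedModule.mkLinearMap_apply, hf.equiv_symm_apply, Algebra.IsPushout.cancelBaseChange_symm_tmul, hg₀.equiv_tmul]

end Build

section Family

variable {R : Type u} [CommRing R] {S N : Type u} [CommRing S] [Algebra R S] [AddCommGroup N] [Module S N]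
  {p : Ideal R} [p.IsPrime] {q : Ideal S} [q.IsPrime] {D : FlatCA.CompleteDevissage R S N p}
  (𝒜 : FlatCA.CompleteDevissageAt R S N p q D)

theorem not_mem_qB {i : ℕ} (h : i + 1 < D.n) {x : D.B i} {z : D.A (i + 1)}
    (hx : algebraMap (D.B i) (D.A (i + 1)) x = z) (hz : z ∉ 𝒜.qA (i + 1)) : x ∉ 𝒜.qB i := fun hm =>
  hz (hx ▸ (show x ∈ (𝒜.qA (i + 1)).comap (algebraMap (D.B i) (D.A (i + 1))) from (𝒜.qStep i h).symm ▸ hm))

theorem im_not_mem {i : ℕ} {x : D.B i} (hx : x ∉ 𝒜.qB i) : algebraMap (D.B i) (D.A i) x ∉ 𝒜.qA i := fun hm =>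
  hx ((show 𝒜.qB i = (𝒜.qA i).comap (algebraMap (D.B i) (D.A i)) from (𝒜.overA i).over) ▸ hm)

/-- A compatible family with prescribed last element. -/
theorem family_last (w : D.B (D.n - 1)) (hw : w ∉ 𝒜.qB (D.n - 1)) :
    ∃ (f : ∀ i, D.B i) (x : S), f (D.n - 1) = w ∧ (∀ i, i < D.n → f i ∉ 𝒜.qB i) ∧
      (∀ i, i + 1 < D.n → algebraMap (D.B i) (D.A (i + 1)) (f i) = algebraMap (D.B (i + 1)) (D.A (i + 1)) (f (i + 1))) ∧
      x ∉ q ∧ algebraMap S (D.A 0) x = algebraMap (D.B 0) (D.A 0) (f 0) := by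
  have key : ∀ k i, i + k = D.n - 1 → ∃ f : ∀ j, D.B j, f (D.n - 1) = w ∧ (∀ j, i ≤ j → j < D.n → f j ∉ 𝒜.qB j) ∧
      ∀ j, i ≤ j → j + 1 < D.n → algebraMap (D.B j) (D.A (j + 1)) (f j) = algebraMap (D.B (j + 1)) (D.A (j + 1)) (f (j + 1)) := by
    intro k
    induction k with
    | zero =>
      intro i hi
      refine ⟨Function.update (fun _ => 1) (D.n - 1) w, Function.update_self .., fun j h1 h2 => ?_, fun j h1 h2 => absurd h2 (by omega)⟩
      obtain rfl : j = D.n - 1 := by omega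
      rw [Function.update_self]
      exact hw
    | succ k ih =>
      intro i hi
      obtain ⟨f, hfl, hf, hfc⟩ := ih (i + 1) (by omega)
      obtain ⟨x, hx⟩ := D.surjBA' i (by omega) (algebraMap (D.B (i + 1)) (D.A (i + 1)) (f (i + 1)))
      refine ⟨Function.update f i x, by rw [Function.update_of_ne (by omega)]; exact hfl, fun j h1 h2 => ?_, fun j h1 h2 => ?_⟩
      · rcases eq_or_lt_of_le h1 with rfl | h
        · rw [Function.update_self]
          exact not_mem_qB 𝒜 (by omega) hx (im_not_mem 𝒜 (hf (i + 1) le_rfl (by omega)))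
        · rw [Function.update_of_ne (by omega)]
          exact hf j h h2
      · rcases eq_or_lt_of_le h1 with rfl | h
        · rw [Function.update_self, Function.update_of_ne (by omega)]
          exact hx
        · rw [Function.update_of_ne (by omega), Function.update_of_ne (by omega)]
          exact hfc j h h2
  obtain ⟨f, hfl, hf, hfc⟩ := key (D.n - 1) 0 (by omega)
  obtain ⟨x, hx⟩ := D.surjSA (algebraMap (D.B 0) (D.A 0) (f 0))
  refine ⟨f, x, hfl, fun i hi => hf i (Nat.zero_le i) hi, fun i hi => hfc i (Nat.zero_le i) hi, fun hm => ?_, hx⟩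
  exact im_not_mem 𝒜 (hf 0 le_rfl D.pos) (hx ▸ (show x ∈ (𝒜.qA 0).comap (algebraMap S (D.A 0)) from 𝒜.q0.symm ▸ hm))

/-- A compatible family divisible by a prescribed element. -/
theorem family_dvd (u : S) (hu : u ∉ q) :
    ∃ (f : ∀ i, D.B i) (x : S), u ∣ x ∧ (∀ i, i < D.n → f i ∉ 𝒜.qB i) ∧
      (∀ i, i + 1 < D.n → algebraMap (D.B i) (D.A (i + 1)) (f i) = algebraMap (D.B (i + 1)) (D.A (i + 1)) (f (i + 1))) ∧
      x ∉ q ∧ algebraMap S (D.A 0) x = algebraMap (D.B 0) (D.A 0) (f 0) := by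
  haveI : ∀ i, (𝒜.qA i).IsPrime := 𝒜.hqA
  haveI : ∀ i, (𝒜.qB i).IsPrime := 𝒜.hqB
  have key : ∀ k i, i + k = D.n - 1 → ∀ v : D.B i, v ∉ 𝒜.qB i →
      ∃ f : ∀ j, D.B j, v ∣ f i ∧ (∀ j, i ≤ j → j < D.n → f j ∉ 𝒜.qB j) ∧
      ∀ j, i ≤ j → j + 1 < D.n → algebraMap (D.B j) (D.A (j + 1)) (f j) = algebraMap (D.B (j + 1)) (D.A (j + 1)) (f (j + 1)) := by
    intro k
    induction k with
    | zero =>
      intro i hi v hv
      refine ⟨Function.update (fun _ => 1) i v, by rw [Function.update_self], fun j h1 h2 => ?_, fun j h1 h2 => absurd h2 (by omega)⟩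
      obtain rfl : j = i := by omega
      rw [Function.update_self]
      exact hv
    | succ k ih =>
      intro i hi v hv
      have hi1 : i + 1 < D.n := by omega
      have he : algebraMap (D.B i) (D.A (i + 1)) v ∉ 𝒜.qA (i + 1) := fun hm =>
        hv ((𝒜.qStep i hi1) ▸ (show v ∈ (𝒜.qA (i + 1)).comap (algebraMap (D.B i) (D.A (i + 1))) from hm))
      haveI := D.finiteBA (i + 1) hi1
      obtain ⟨y, hy, hvy⟩ := exists_mem_dvd (𝒜.qB (i + 1)) (𝒜.qA (i + 1)) (fun Q _ h => 𝒜.uniq (i + 1) hi1 Q h) _ he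
      obtain ⟨f, hyf, hf, hfc⟩ := ih (i + 1) (by omega) y hy
      obtain ⟨c, hc⟩ := hvy.trans (map_dvd (algebraMap (D.B (i + 1)) (D.A (i + 1))) hyf)
      obtain ⟨c', rfl⟩ := D.surjBA' i hi1 c
      rw [← map_mul] at hc
      refine ⟨Function.update f i (v * c'), by rw [Function.update_self]; exact dvd_mul_right v c', fun j h1 h2 => ?_, fun j h1 h2 => ?_⟩
      · rcases eq_or_lt_of_le h1 with rfl | h
        · rw [Function.update_self]
          exact not_mem_qB 𝒜 hi1 hc.symm (im_not_mem 𝒜 (hf (i + 1) le_rfl hi1))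
        · rw [Function.update_of_ne (by omega)]
          exact hf j h h2
      · rcases eq_or_lt_of_le h1 with rfl | h
        · rw [Function.update_self, Function.update_of_ne (by omega)]
          exact hc.symm
        · rw [Function.update_of_ne (by omega), Function.update_of_ne (by omega)]
          exact hfc j h h2
  haveI := D.finiteBA 0 D.pos
  have he : algebraMap S (D.A 0) u ∉ 𝒜.qA 0 := fun hm =>
    hu (𝒜.q0 ▸ (show u ∈ (𝒜.qA 0).comap (algebraMap S (D.A 0)) from hm))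
  obtain ⟨y, hy, huy⟩ := exists_mem_dvd (𝒜.qB 0) (𝒜.qA 0) (fun Q _ h => 𝒜.uniq 0 D.pos Q h) _ he
  obtain ⟨f, hyf, hf, hfc⟩ := key (D.n - 1) 0 (by omega) y hy
  obtain ⟨c, hc⟩ := huy.trans (map_dvd (algebraMap (D.B 0) (D.A 0)) hyf)
  obtain ⟨c', rfl⟩ := D.surjSA c
  rw [← map_mul] at hc
  refine ⟨f, u * c', dvd_mul_right u c', fun i hi => hf i (Nat.zero_le i) hi, fun i hi => hfc i (Nat.zero_le i) hi, fun hm => ?_, hc.symm⟩
  exact im_not_mem 𝒜 (hf 0 le_rfl D.pos) (hc ▸ (show u * c' ∈ (𝒜.qA 0).comap (algebraMap S (D.A 0)) from 𝒜.q0.symm ▸ hm))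

end Family

end Groth.Agent.CDShrink
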